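/-
Relators of the group of order 54 generated by three transpositions.
-/
import Cfsg.Agent.Lib.Spor.TC.Word

namespace CfsgLib.Spor.Hall54

open CfsgLib.Spor.TC

/-- The relators. -/
def relsG : List PowRel := [
  ([0, 1], 3),
  ([1, 2], 3),
  ([0, 2], 3),
  ([0, 1, 2, 1], 3)]

/-- The relator of the dihedral group of order six. -/
def relsD : List PowRel := [([0, 1], 3)]

end CfsgLib.Spor.Hall54
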