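/-
Three transpositions: a quotient of order 54 with a central element of order three splits.
-/
import Cfsg.Agent.Lib.Spor.Hall54.CG.All
import Cfsg.Agent.Lib.Spor.Hall54.Dih.All
import Cfsg.Prelude.Def_SporadicB

set_option autoImplicit false

namespace CfsgLib.Spor.Hall54

open CfsgLib.Spor.TC

theorem card_three_le {G : Type*} [Group G] [Finite G] (a b c : G) (ha : a * a = 1) (hb : b * b = 1) (hc : c * c = 1)
    (hab : (a * b) ^ 3 = 1) (hbc : (b * c) ^ 3 = 1) (hac : (a * c) ^ 3 = 1)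
    (habcb : (a * (b * c * b)) ^ 3 = 1) :
    Nat.card (Subgroup.closure ({a, b, c} : Set G)) ≤ 54 := by
  let g : ℕ → G := fun x => if x = 0 then a else if x = 1 then b else if x = 2 then c else 1
  have hs : Sat 3 relsG g := by
    refine ⟨fun x => ?_, fun x hx => ?_, fun r hr => ?_⟩
    · dsimp only [g]; split_ifs <;> first | assumption | exact one_mul 1
    · dsimp only [g]; rw [if_neg (by omega), if_neg (by omega), if_neg (by omega)]
    · simp only [relsG, List.mem_cons, List.not_mem_nil, or_false] at hr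
      rcases hr with rfl | rfl | rfl | rfl <;> simp [ev, g, ← mul_assoc] <;>
        first | exact hab | exact hbc | exact hac | exact (by simpa [← mul_assoc] using habcb)
  have hle : Subgroup.closure ({a, b, c} : Set G) ≤ (presHom hs).range := by
    rw [range_presHom, Subgroup.closure_le]
    rintro x (rfl | rfl | rfl)
    · exact Subgroup.subset_closure ⟨0, by simp, by simp [g]⟩
    · exact Subgroup.subset_closure ⟨1, by simp, by simp [g]⟩
    · exact Subgroup.subset_closure ⟨2, by simp, by simp [g]⟩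
  obtain ⟨h1, h2⟩ := CG.cosetCert.card_le_bot
  haveI := Nat.finite_of_card_ne_zero h1
  exact (Subgroup.card_le_of_le hle).trans
    ((Nat.card_le_card_of_surjective _ (presHom hs).rangeRestrict_surjective).trans h2)

theorem card_two_le {G : Type*} [Group G] [Finite G] (a b : G) (ha : a * a = 1) (hb : b * b = 1)
    (hab : (a * b) ^ 3 = 1) : Nat.card (Subgroup.closure ({a, b} : Set G)) ≤ 6 := by
  let g : ℕ → G := fun x => if x = 0 then a else if x = 1 then b else 1
  have hs : Sat 2 relsD g := by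
    refine ⟨fun x => ?_, fun x hx => ?_, fun r hr => ?_⟩
    · dsimp only [g]; split_ifs <;> first | assumption | exact one_mul 1
    · dsimp only [g]; rw [if_neg (by omega), if_neg (by omega)]
    · simp only [relsD, List.mem_cons, List.not_mem_nil, or_false] at hr
      subst hr
      simpa [ev, g] using hab
  have hle : Subgroup.closure ({a, b} : Set G) ≤ (presHom hs).range := by
    rw [range_presHom, Subgroup.closure_le]
    rintro x (rfl | rfl)
    · exact Subgroup.subset_closure ⟨0, by simp, by simp [g]⟩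
    · exact Subgroup.subset_closure ⟨1, by simp, by simp [g]⟩
  obtain ⟨h1, h2⟩ := Dih.cosetCert.card_le_bot
  haveI := Nat.finite_of_card_ne_zero h1
  exact (Subgroup.card_le_of_le hle).trans
    ((Nat.card_le_card_of_surjective _ (presHom hs).rangeRestrict_surjective).trans h2)

variable {B : Type*} [Group B] [Finite B]

theorem not_commute (hB : Nat.card B = 54) {u v : B} (hu : u * u = 1) (hv : v * v = 1) (hu1 : u ≠ 1) (hv1 : v ≠ 1)
    (huv : u ≠ v) : ¬ Commute u v := by
  classical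
  intro hc
  have hp : ∀ {x : B}, x * x = 1 → IsPGroup 2 (Subgroup.zpowers x) := by
    intro x hx y
    refine ⟨1, Subtype.ext ?_⟩
    obtain ⟨n, hn⟩ := Subgroup.mem_zpowers_iff.1 y.2
    show ((y : B)) ^ (2 ^ 1) = 1
    rw [← hn, pow_one, ← zpow_natCast, ← zpow_mul, mul_comm, zpow_mul, zpow_natCast, pow_two, hx, one_zpow]
  have hle : Subgroup.zpowers u ≤ Subgroup.normalizer (Subgroup.zpowers v : Set B) :=
    Subgroup.zpowers_le.2 (Subgroup.centralizer_le_normalizer _ (fun y hy => by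
      obtain ⟨n, rfl⟩ := Subgroup.mem_zpowers_iff.1 hy
      exact (hc.zpow_right n).symm.eq))
  obtain ⟨n, hn⟩ := ((hp hu).to_sup_of_normal_right' (hp hv) hle).exists_card_eq
  have hd := Subgroup.card_subgroup_dvd_card (Subgroup.zpowers u ⊔ Subgroup.zpowers v)
  rw [hB, hn] at hd
  have hn1 : n ≤ 1 := by
    by_contra h
    have h4 : 2 ^ 2 ∣ 54 := (pow_dvd_pow 2 (by omega : 2 ≤ n)).trans hd
    norm_num at h4
  have h3 : ({1, u, v} : Finset B).card = 3 := Finset.card_eq_three.2 ⟨1, u, v, hu1.symm, hv1.symm, huv, rfl⟩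
  have hsub : (({1, u, v} : Finset B) : Set B) ⊆ ((Subgroup.zpowers u ⊔ Subgroup.zpowers v : Subgroup B) : Set B) := by
    intro x hx
    simp only [Finset.coe_insert, Finset.coe_singleton, Set.mem_insert_iff, Set.mem_singleton_iff] at hx
    rcases hx with rfl | rfl | rfl
    · exact one_mem _
    · exact Subgroup.mem_sup_left (Subgroup.mem_zpowers _)
    · exact Subgroup.mem_sup_right (Subgroup.mem_zpowers _)
  have h := Set.ncard_le_ncard hsub
  rw [Set.ncard_coe_finset, h3, ← Nat.card_coe_set_eq] at h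
  have : Nat.card (Subgroup.zpowers u ⊔ Subgroup.zpowers v : Subgroup B) ≤ 2 := by
    rw [hn]; exact (Nat.pow_le_pow_right (by norm_num) hn1).trans_eq (pow_one 2)
  exact absurd (h.trans this) (by norm_num)

theorem mem_of_sq {H : Subgroup B} {z h : B} (hz3 : z ^ 3 = 1) (hz : ∀ x, x * z = z * x) (hzH : z ∉ H)
    (hh : h ∈ H) (i : ℕ) (hsq : (h * z ^ i) * (h * z ^ i) = 1) : h * z ^ i ∈ H := by
  have hc : Commute h (z ^ i) := Commute.pow_right (hz h) i
  rw [← mul_assoc, mul_assoc h, ← hc.eq, ← mul_assoc, mul_assoc (h * h)] at hsq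
  have h2 : z ^ (i + i) ∈ H := by
    rw [pow_add, ← inv_eq_of_mul_eq_one_right hsq]
    exact inv_mem (mul_mem hh hh)
  have h4 : z ^ i ∈ H := by
    have : z ^ i = (z ^ (i + i)) ^ 2 := by
      rw [← pow_mul, show (i + i) * 2 = i + 3 * i by omega, pow_add, pow_mul, hz3, one_pow, mul_one]
    rw [this]; exact pow_mem h2 2
  exact mul_mem hh h4

theorem exists_decomp {H K : Subgroup B} {z : B} (hz3 : z ^ 3 = 1) (hzH : z ∉ H) (hHK : H ≤ K) (hzK : z ∈ K)
    (hcard : Nat.card K ≤ 3 * Nat.card H) {x : B} (hx : x ∈ K) : ∃ h ∈ H, ∃ i : ℕ, x = h * z ^ i := by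
  let f : H × Fin 3 → K := fun p => ⟨p.1.1 * z ^ (p.2 : ℕ), mul_mem (hHK p.1.2) (pow_mem hzK _)⟩
  have h2 : z ^ 2 ∉ H := fun h => hzH (by
    have : z = (z ^ 2) ^ 2 := by rw [← pow_mul, show 2 * 2 = 3 + 1 by norm_num, pow_add, hz3, one_mul, pow_one]
    rw [this]; exact pow_mem h 2)
  have hinv : z⁻¹ = z ^ 2 := inv_eq_of_mul_eq_one_right (by rw [← pow_succ', hz3])
  have hi : ∀ i j : Fin 3, (z ^ (i : ℕ)) * (z ^ (j : ℕ))⁻¹ ∈ H → i = j := by
    intro i j
    have h2' : z * z ∉ H := by rwa [← pow_two]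
    have hi1 : z⁻¹ ∉ H := fun h => hzH (inv_mem_iff.1 h)
    have hi2 : (z * z)⁻¹ ∉ H := fun h => h2' (inv_mem_iff.1 h)
    fin_cases i <;> fin_cases j <;> intro h <;>
      first
        | rfl
        | exact (hzH (by simpa [pow_two, mul_assoc] using h)).elim
        | exact (h2' (by simpa [pow_two, mul_assoc] using h)).elim
        | exact (hi1 (by simpa [pow_two, mul_assoc] using h)).elim
        | exact (hi2 (by simpa [pow_two, mul_assoc] using h)).elim
  have hinj : Function.Injective f := by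
    rintro ⟨⟨h, hh⟩, i⟩ ⟨⟨h', hh'⟩, j⟩ e
    have e' : h * z ^ (i : ℕ) = h' * z ^ (j : ℕ) := congrArg Subtype.val e
    obtain rfl := hi i j (by
      have : z ^ (i : ℕ) * (z ^ (j : ℕ))⁻¹ = h⁻¹ * h' := by
        rw [mul_inv_eq_iff_eq_mul, mul_assoc, ← e', inv_mul_cancel_left]
      rw [this]; exact mul_mem (inv_mem hh) hh')
    obtain rfl := mul_right_cancel e'
    rfl
  have hb := hinj.bijective_of_nat_card_le (by rw [Nat.card_prod, Nat.card_fin]; omega)
  obtain ⟨⟨h, i⟩, e⟩ := hb.2 ⟨x, hx⟩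
  exact ⟨h, h.2, i, (congrArg Subtype.val e).symm⟩

theorem closure_eq_top (hB : Nat.card B = 54) {z : B} (hz1 : z ≠ 1) (hz3 : z ^ 3 = 1) (hz : ∀ x, x * z = z * x)
    {E : Set B} (hE : Subgroup.closure E = ⊤) (hE2 : ∀ e ∈ E, e * e = 1) {a b c : B} (ha : a ∈ E)
    (hb : b ∈ E) (hc : c ∈ E) (ha1 : a ≠ 1) (hab : a ≠ b) (hab3 : (a * b) ^ 3 = 1)
    (hcS : c ∉ Subgroup.closure ({a, b} : Set B)) : Subgroup.closure ({a, b, c} : Set B) = ⊤ := by
  set S := Subgroup.closure ({a, b} : Set B) with hSdef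
  set L := Subgroup.closure ({a, b, c} : Set B) with hLdef
  have hSL : S ≤ L := Subgroup.closure_mono (by intro x hx; simp at hx ⊢; tauto)
  have haS : a ∈ S := Subgroup.subset_closure (by simp)
  have hbS : b ∈ S := Subgroup.subset_closure (by simp)
  have hcL : c ∈ L := Subgroup.subset_closure (by simp)
  have h6 := card_two_le a b (hE2 a ha) (hE2 b hb) hab3
  rw [← hSdef] at h6
  have hab1 : a * b ≠ 1 := fun h => hab (by
    rw [← inv_eq_of_mul_eq_one_right h]; exact (inv_eq_of_mul_eq_one_right (hE2 a ha)).symm)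
  have o3 : orderOf (a * b) = 3 := orderOf_eq_prime hab3 hab1
  have o2 : orderOf a = 2 := orderOf_eq_prime (by rw [pow_two]; exact hE2 a ha) ha1
  have d3 : 3 ∣ Nat.card S := o3 ▸ Subgroup.orderOf_dvd_natCard S (mul_mem haS hbS)
  have d2 : 2 ∣ Nat.card S := o2 ▸ Subgroup.orderOf_dvd_natCard S haS
  have hS6 : Nat.card S = 6 := by
    have h := Nat.card_pos (α := S)
    omega
  have hne : ¬ Subgroup.index ((Subgroup.zpowers (a * b)).subgroupOf S) ≠ 2 := by
    intro h
    have h1 := Subgroup.index_mul_card ((Subgroup.zpowers (a * b)).subgroupOf S)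
    rw [Nat.card_congr (Subgroup.subgroupOfEquivOfLe (Subgroup.zpowers_le.2 (mul_mem haS hbS))).toEquiv,
      Nat.card_zpowers, o3, hS6] at h1
    omega
  have hzS : z ∉ S := by
    intro h
    have h2 := Subgroup.sq_mem_of_index_two (not_not.1 hne) (⟨z, h⟩ : S)
    rw [Subgroup.mem_subgroupOf] at h2
    have h3 : z ∈ Subgroup.zpowers (a * b) := by
      have : z = (z ^ 2) ^ 2 := by rw [← pow_mul, show 2 * 2 = 3 + 1 by norm_num, pow_add, hz3, one_mul, pow_one]
      rw [this]; exact pow_mem (by simpa using h2) 2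
    have hzp : Subgroup.zpowers z = Subgroup.zpowers (a * b) :=
      Subgroup.eq_of_le_of_card_ge (Subgroup.zpowers_le.2 h3) (le_of_eq (by
        rw [Nat.card_zpowers, Nat.card_zpowers, orderOf_eq_prime hz3 hz1, o3]))
    obtain ⟨n, hn⟩ := Subgroup.mem_zpowers_iff.1 (hzp ▸ Subgroup.mem_zpowers (a * b))
    have hc' : Commute a (a * b) := hn ▸ (Commute.zpow_right (hz a) n)
    have hab' : Commute a b := mul_left_cancel (hc'.eq.trans (mul_assoc a b a))
    exact not_commute hB (hE2 a ha) (hE2 b hb) ha1 (fun h => hab1 (by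
      have := hab3; rw [h, mul_one] at this
      exact absurd (orderOf_dvd_of_pow_eq_one this) (by rw [o2]; norm_num))) hab hab'
  by_contra hL
  have hL54 : Nat.card L ≠ 54 := fun h => hL (Subgroup.eq_top_of_card_eq L (h.trans hB.symm))
  have hdL : Nat.card L ∣ 54 := hB ▸ Subgroup.card_subgroup_dvd_card L
  have hLS : Nat.card L ≠ 6 := fun h => hcS (by
    rw [Subgroup.eq_of_le_of_card_ge hSL (by omega)]; exact hcL)
  have h6L : 6 ∣ Nat.card L := hS6 ▸ Subgroup.card_dvd_of_le hSL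
  have hL18 : Nat.card L = 18 := by
    have h := Nat.le_of_dvd (by norm_num) hdL
    obtain ⟨k, hk⟩ := h6L
    have hk' : k ≤ 9 := by omega
    rw [hk] at hdL hL54 hLS ⊢
    interval_cases k <;> norm_num at *
  by_cases hzL : z ∈ L
  · obtain ⟨h, hh, i, e⟩ := exists_decomp hz3 hzS hSL hzL (by omega) hcL
    exact hcS (e ▸ mem_of_sq hz3 hz hzS hh i (e ▸ hE2 c hc))
  · refine hL (eq_top_iff.2 (hE ▸ (Subgroup.closure_le _).2 fun d hd => ?_))
    obtain ⟨h, hh, i, e⟩ := exists_decomp hz3 hzL le_top (Subgroup.mem_top z)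
      (by rw [Subgroup.card_top, hB]; omega) (Subgroup.mem_top d)
    exact e ▸ mem_of_sq hz3 hz hzL hh i (e ▸ hE2 d hd)

theorem exists_complement {G : Type*} [Group G] [Finite G] {D : Set G}
    (hD : Cfsg.IsThreeTranspositionClass D) (N : Subgroup G) [N.Normal] (hB : Nat.card (G ⧸ N) = 54)
    (hz : ∃ z : G ⧸ N, z ≠ 1 ∧ z ^ 3 = 1 ∧ ∀ x, x * z = z * x) : ∃ K : Subgroup G, N.IsComplement' K := by
  obtain ⟨z, hz1, hz3, hzc⟩ := hz
  obtain ⟨⟨h2, h23⟩, ⟨d₀, hd₀, hDeq⟩, hgen⟩ := hD
  have hsq : ∀ d ∈ D, d * d = 1 := fun d hd => by rw [← pow_two, ← h2 d hd, pow_orderOf_eq_one]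
  have hconj : ∀ g : G, ∀ d ∈ D, g * d * g⁻¹ ∈ D := fun g d hd => by
    rw [hDeq] at hd ⊢; exact hd.trans (isConj_iff.2 ⟨g, rfl⟩)
  set π := QuotientGroup.mk' N with hπ
  have himg : Subgroup.closure (π '' D) = ⊤ := by
    rw [← MonoidHom.map_closure, hgen, Subgroup.map_top_of_surjective _ (QuotientGroup.mk'_surjective N)]
  have hne1 : ∀ d ∈ D, π d ≠ 1 := by
    intro d hd h
    have hle : D ⊆ (N : Set G) := fun e he => by
      rw [hDeq] at hd he
      obtain ⟨g, rfl⟩ := isConj_iff.1 ((IsConj.symm hd).trans he)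
      exact Subgroup.Normal.conj_mem inferInstance d ((QuotientGroup.eq_one_iff d).1 h) g
    have : N = ⊤ := top_le_iff.1 (hgen ▸ (Subgroup.closure_le N).2 hle)
    subst this
    rw [show Nat.card (G ⧸ (⊤ : Subgroup G)) = 1 from Subgroup.index_top] at hB
    norm_num at hB
  have hthree : ∀ d ∈ D, ∀ e ∈ D, π d ≠ π e → (d * e) ^ 3 = 1 := by
    intro d hd e he hne
    refine (h23 d hd e he).resolve_left fun h => not_commute hB (by rw [← map_mul, hsq d hd, map_one])
      (by rw [← map_mul, hsq e he, map_one]) (hne1 d hd) (hne1 e he) hne ?_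
    have h' : π d * π e * (π d * π e) = 1 := by rw [← map_mul, ← map_mul, ← pow_two, h, map_one]
    have he' : (π e)⁻¹ = π e := inv_eq_of_mul_eq_one_right (by rw [← map_mul, hsq e he, map_one])
    have hd' : (π d)⁻¹ = π d := inv_eq_of_mul_eq_one_right (by rw [← map_mul, hsq d hd, map_one])
    exact (inv_eq_of_mul_eq_one_right h').symm.trans (by rw [mul_inv_rev, hd', he'])
  have hE2 : ∀ u ∈ π '' D, u * u = 1 := by
    rintro _ ⟨d, hd, rfl⟩; rw [← map_mul, hsq d hd, map_one]
  have hne0 : π d₀ ≠ 1 := hne1 d₀ hd₀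
  obtain ⟨b, hb, hab⟩ : ∃ b ∈ D, π d₀ ≠ π b := by
    by_contra h
    push Not at h
    have : Subgroup.closure (π '' D) ≤ Subgroup.zpowers (π d₀) := (Subgroup.closure_le _).2 (by
      rintro _ ⟨d, hd, rfl⟩; exact (h d hd) ▸ Subgroup.mem_zpowers _)
    rw [himg] at this
    have h1 := Subgroup.card_le_of_le this
    rw [Subgroup.card_top, hB, Nat.card_zpowers] at h1
    have h2' : orderOf (π d₀) = 2 :=
      orderOf_eq_prime (by rw [pow_two]; exact hE2 _ ⟨d₀, hd₀, rfl⟩) hne0
    omega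
  have hab3 : (π d₀ * π b) ^ 3 = 1 := by rw [← map_mul, ← map_pow, hthree d₀ hd₀ b hb hab, map_one]
  obtain ⟨c, hc, hcS⟩ : ∃ c ∈ D, π c ∉ Subgroup.closure ({π d₀, π b} : Set (G ⧸ N)) := by
    by_contra h
    push Not at h
    have : Subgroup.closure (π '' D) ≤ Subgroup.closure ({π d₀, π b} : Set (G ⧸ N)) :=
      (Subgroup.closure_le _).2 (by rintro _ ⟨d, hd, rfl⟩; exact h d hd)
    rw [himg] at this
    have h1 := Subgroup.card_le_of_le this
    rw [Subgroup.card_top, hB] at h1
    have := card_two_le _ _ (hE2 _ ⟨d₀, hd₀, rfl⟩) (hE2 _ ⟨b, hb, rfl⟩) hab3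
    omega
  have htop := closure_eq_top hB hz1 hz3 hzc himg hE2 ⟨d₀, hd₀, rfl⟩ ⟨b, hb, rfl⟩ ⟨c, hc, rfl⟩ hne0 hab
    hab3 hcS
  have hbinv : b⁻¹ = b := inv_eq_of_mul_eq_one_right (hsq b hb)
  have hbcb : b * c * b ∈ D := by
    have := hconj b c hc
    rwa [hbinv] at this
  have hac : π d₀ ≠ π c := fun h => hcS (h ▸ Subgroup.subset_closure (by simp))
  have hbc : π b ≠ π c := fun h => hcS (h ▸ Subgroup.subset_closure (by simp))
  have habcb : π d₀ ≠ π (b * c * b) := fun h => hcS (by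
    have e : π c = π b * π d₀ * π b := by
      rw [h, map_mul, map_mul]
      have hb' := hE2 _ ⟨b, hb, rfl⟩
      calc π c = π b * π b * π c * (π b * π b) := by rw [hb', one_mul, mul_one]
        _ = _ := by group
    rw [e]
    have hm : π b ∈ Subgroup.closure ({π d₀, π b} : Set (G ⧸ N)) := Subgroup.subset_closure (by simp)
    exact mul_mem (mul_mem hm (Subgroup.subset_closure (by simp))) hm)
  have h54 := card_three_le d₀ b c (hsq _ hd₀) (hsq _ hb) (hsq _ hc) (hthree _ hd₀ _ hb hab)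
    (hthree _ hb _ hc hbc) (hthree _ hd₀ _ hc hac) (hthree _ hd₀ _ hbcb habcb)
  set H := Subgroup.closure ({d₀, b, c} : Set G) with hH
  let f : H →* G ⧸ N := π.comp H.subtype
  have hsurj : Function.Surjective f := by
    rw [← MonoidHom.range_eq_top, MonoidHom.range_comp, Subgroup.range_subtype, hH, MonoidHom.map_closure,
      Set.image_insert_eq, Set.image_insert_eq, Set.image_singleton]
    exact htop
  have hbij := hsurj.bijective_of_nat_card_le (by rw [hB]; exact h54)
  refine ⟨H, Subgroup.isComplement'_of_card_mul_and_disjoint ?_ ?_⟩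
  · rw [Nat.card_congr (Equiv.ofBijective f hbij)]
    rw [mul_comm]; exact (Subgroup.card_eq_card_quotient_mul_card_subgroup N).symm
  · rw [Subgroup.disjoint_def]
    intro x hxN hxH
    exact congrArg Subtype.val (hbij.1 (a₁ := ⟨x, hxH⟩) (a₂ := 1) (by
      rw [map_one]; exact (QuotientGroup.eq_one_iff x).2 hxN))

end CfsgLib.Spor.Hall54
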