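/-
The derived group of SU(3,2): order 54, with a central element of order three.
-/
import Cfsg.Agent.Lib.Perm.PSUThreeTwo.Group

set_option autoImplicit false

namespace CfsgLib.Spor.Hall54

open Cfsg CfsgLib.Perm.PSUThreeTwo
open scoped commutatorElement

/-- Elements whose commutators exhaust the derived group. -/
def witnesses : List M3 := [
  ⟨⟨.i, .i, .w⟩, ⟨.i, .w, .i⟩, ⟨.v, .w, .w⟩⟩,
  ⟨⟨.w, .v, .w⟩, ⟨.v, .v, .i⟩, ⟨.v, .w, .w⟩⟩,
  ⟨⟨.w, .i, .i⟩, ⟨.v, .i, .v⟩, ⟨.v, .v, .i⟩⟩,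
  ⟨⟨.v, .w, .i⟩, ⟨.w, .v, .i⟩, ⟨.i, .i, .i⟩⟩,
  ⟨⟨.i, .i, .i⟩, ⟨.w, .v, .i⟩, ⟨.v, .w, .i⟩⟩,
  ⟨⟨.v, .v, .i⟩, ⟨.w, .i, .i⟩, ⟨.v, .i, .v⟩⟩,
  ⟨⟨.i, .v, .v⟩, ⟨.i, .i, .w⟩, ⟨.v, .i, .v⟩⟩,
  ⟨⟨.o, .o, .v⟩, ⟨.v, .o, .o⟩, ⟨.o, .v, .o⟩⟩,
  ⟨⟨.o, .v, .o⟩, ⟨.o, .o, .w⟩, ⟨.i, .o, .o⟩⟩,
  ⟨⟨.w, .w, .i⟩, ⟨.v, .i, .i⟩, ⟨.w, .i, .w⟩⟩,
  ⟨⟨.i, .v, .i⟩, ⟨.w, .v, .v⟩, ⟨.i, .i, .v⟩⟩,
  ⟨⟨.w, .i, .i⟩, ⟨.i, .w, .i⟩, ⟨.w, .w, .v⟩⟩,
  ⟨⟨.v, .v, .v⟩, ⟨.v, .i, .w⟩, ⟨.v, .w, .i⟩⟩,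
  ⟨⟨.v, .w, .w⟩, ⟨.v, .i, .v⟩, ⟨.w, .w, .v⟩⟩,
  ⟨⟨.v, .w, .i⟩, ⟨.v, .v, .v⟩, ⟨.v, .i, .w⟩⟩,
  ⟨⟨.i, .w, .w⟩, ⟨.i, .v, .i⟩, ⟨.w, .w, .i⟩⟩,
  ⟨⟨.v, .v, .v⟩, ⟨.w, .i, .v⟩, ⟨.i, .w, .v⟩⟩,
  ⟨⟨.w, .v, .v⟩, ⟨.v, .w, .v⟩, ⟨.w, .w, .i⟩⟩,
  ⟨⟨.v, .i, .v⟩, ⟨.w, .i, .i⟩, ⟨.v, .v, .i⟩⟩,
  ⟨⟨.v, .v, .w⟩, ⟨.v, .i, .i⟩, ⟨.i, .v, .i⟩⟩,
  ⟨⟨.i, .i, .w⟩, ⟨.v, .i, .v⟩, ⟨.i, .v, .v⟩⟩,
  ⟨⟨.i, .w, .v⟩, ⟨.i, .i, .i⟩, ⟨.i, .v, .w⟩⟩]

/-- The coded derived group. -/
def coded : List M3 := elems.filter fun g => rho g == .a 0 || rho g == .a 2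

theorem witnesses_mem : (witnesses.all fun s => elems.contains s) = true := by decide +kernel

theorem coded_length : coded.length = 54 := by decide +kernel

theorem coded_commutator : (coded.all fun g => witnesses.any fun s => witnesses.any fun t =>
    ((s.mul t).mul (s.star.mul t.star)) == g) = true := by decide +kernel

theorem star_spec : (witnesses.all fun s => s.star.mul s == scalar .i && elems.contains s.star) = true := by
  decide +kernel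

theorem quaternion_commutator : ∀ x y : QuaternionGroup 2,
    x * y * x⁻¹ * y⁻¹ = .a 0 ∨ x * y * x⁻¹ * y⁻¹ = .a 2 := by decide +kernel

theorem quaternion_two : ∀ x : QuaternionGroup 2,
    x ∈ ({.a 0, .a 2} : Finset (QuaternionGroup 2)) → x⁻¹ ∈ ({.a 0, .a 2} : Finset (QuaternionGroup 2)) ∧
      ∀ y ∈ ({.a 0, .a 2} : Finset (QuaternionGroup 2)), x * y ∈ ({.a 0, .a 2} : Finset (QuaternionGroup 2)) := by
  decide +kernel

theorem scalar_coded : coded.contains (scalar .w) = true := by decide +kernel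

variable {F : Type*} [Field F] [Fintype F]

theorem derived (hF : Fintype.card F = 4) :
    Nat.card (commutator ↥(Cfsg.SU 3 F 2)) = 54 ∧
      ∃ z : commutator ↥(Cfsg.SU 3 F 2), z ≠ 1 ∧ z ^ 3 = 1 ∧ ∀ x, x * z = z * x := by
  classical
  obtain ⟨R⟩ := exists_root hF
  choose c hc hcA using R.exists_code hF
  have hcuniq : ∀ (A : SU 3 F 2) g, A.1.1 = R.mat g → c A = g := fun A g h =>
    R.mat_injective ((hcA A).symm.trans h)
  have hcinj : Function.Injective c := fun A B h =>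
    Subtype.ext (Subtype.ext (by rw [hcA A, hcA B, h]))
  have hcmul : ∀ A B, c (A * B) = (c A).mul (c B) := fun A B => hcuniq _ _ (by
    rw [R.mat_mul, ← hcA A, ← hcA B]; rfl)
  let φ : SU 3 F 2 →* QuaternionGroup 2 := MonoidHom.mk' (fun A => rho (c A)) fun A B => by
    rw [hcmul, rho_mul (hc A) (hc B)]
  have hsurj : ∀ g ∈ elems, ∃ A : SU 3 F 2, c A = g := fun g hg => by
    obtain ⟨A, hA⟩ := R.mem_su g hg
    exact ⟨A, hcuniq A g hA⟩
  have hone : c 1 = scalar .i := hcuniq 1 _ (by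
    ext i j
    fin_cases i <;> fin_cases j <;> simp [Root.mat, Root.vec, Root.ev, scalar])
  have key : ∀ A : SU 3 F 2, A ∈ commutator ↥(Cfsg.SU 3 F 2) ↔ c A ∈ coded := by
    intro A
    constructor
    · intro hA
      let T : Subgroup (QuaternionGroup 2) := Subgroup.zpowers (.a 2)
      have hT : ∀ x : QuaternionGroup 2, x = .a 0 ∨ x = .a 2 → x ∈ T := by
        rintro x (rfl | rfl)
        · rw [← QuaternionGroup.one_def]; exact T.one_mem
        · exact Subgroup.mem_zpowers _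
      have hle : commutator ↥(Cfsg.SU 3 F 2) ≤ T.comap φ := by
        rw [commutator_def, Subgroup.commutator_le]
        intro x _ y _
        rw [Subgroup.mem_comap, commutatorElement_def]
        simp only [map_mul, map_inv]
        exact hT _ (quaternion_commutator _ _)
      obtain ⟨n, hn⟩ := Subgroup.mem_zpowers_iff.1 (hle hA)
      have h2 : (QuaternionGroup.a 2 : QuaternionGroup 2) ^ 2 = 1 := by decide
      rw [zpow_eq_zpow_emod' n h2] at hn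
      simp only [coded, List.mem_filter, Bool.or_eq_true, beq_iff_eq]
      refine ⟨hc A, ?_⟩
      rw [show ((2 : ℕ) : ℤ) = 2 from rfl] at hn
      rcases Int.emod_two_eq_zero_or_one n with h | h <;> rw [h] at hn
      · exact Or.inl (hn.symm.trans (by decide))
      · exact Or.inr (hn.symm.trans (zpow_one _))
    · intro hA
      have h := List.all_eq_true.1 coded_commutator _ hA
      simp only [List.any_eq_true, beq_iff_eq] at h
      obtain ⟨s, hs, t, ht, hst⟩ := h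
      have hmem : ∀ u ∈ witnesses, ∃ B : SU 3 F 2, c B = u ∧ c B⁻¹ = u.star := by
        intro u hu
        obtain ⟨B, hB⟩ := hsurj u (by simpa using List.all_eq_true.1 witnesses_mem u hu)
        have h := List.all_eq_true.1 star_spec u hu
        simp only [Bool.and_eq_true, beq_iff_eq, List.contains_iff_mem] at h
        obtain ⟨B', hB'⟩ := hsurj u.star h.2
        have : B' * B = 1 := hcinj (by rw [hcmul, hB, hB', h.1, hone])
        exact ⟨B, hB, by rw [inv_eq_of_mul_eq_one_left this, hB']⟩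
      obtain ⟨S, hS, hS'⟩ := hmem s hs
      obtain ⟨T, hT, hT'⟩ := hmem t ht
      have : A = ⁅S, T⁆ := hcinj (by
        rw [← hst, commutatorElement_def, mul_assoc (S * T), hcmul, hcmul, hcmul, hS, hT, hS', hT'])
      rw [this, commutator_def]
      exact Subgroup.commutator_mem_commutator (Subgroup.mem_top _) (Subgroup.mem_top _)
  refine ⟨?_, ?_⟩
  · rw [← coded_length, ← List.toFinset_card_of_nodup (l := coded) (elems_nodup.filter _),
      ← Nat.card_eq_finsetCard]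
    refine Nat.card_congr (Equiv.ofBijective (fun A => ⟨c A.1, List.mem_toFinset.2 ((key A.1).1 A.2)⟩)
      ⟨fun A B h => Subtype.ext (hcinj (congrArg Subtype.val h)), fun g => ?_⟩)
    have hg := List.mem_toFinset.1 g.2
    obtain ⟨A, hA⟩ := hsurj g.1 (List.mem_of_mem_filter hg)
    exact ⟨⟨A, (key A).2 (by rw [hA]; exact hg)⟩, Subtype.ext hA⟩
  · have hw : scalar .w ∈ coded := by simpa using scalar_coded
    obtain ⟨Z, hZ⟩ := hsurj _ (List.mem_of_mem_filter hw)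
    have hcomm : ∀ X, X * Z = Z * X := fun X => hcinj (by
      rw [hcmul, hcmul, hZ]
      have h := List.all_eq_true.1 scalar_central .w (by simp)
      simp only [Bool.and_eq_true, beq_iff_eq, List.all_eq_true] at h
      exact (h.2 _ (hc X)).symm)
    refine ⟨⟨Z, (key Z).2 (by rw [hZ]; exact hw)⟩, fun h => ?_, ?_, fun x => Subtype.ext (hcomm x.1)⟩
    · have : Z = 1 := congrArg Subtype.val h
      rw [this, hone] at hZ
      exact absurd hZ (by decide)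
    · refine Subtype.ext (hcinj ?_)
      show c (Z ^ 3) = c 1
      rw [pow_succ, pow_two, hcmul, hcmul, hZ, hone]
      decide

end CfsgLib.Spor.Hall54
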